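import Cfsg.Agent.Lib.SpectrumU33.SU3Data
import Cfsg.Prelude.Def_Classical

/-!
The element orders of `PSU₃(3)` are `1, 2, 3, 4, 6, 7, 8, 12`.
-/

namespace CfsgLib.SpectrumU33

open Matrix

variable {F : Type*} [Field F]

/-- The element with code `n`, relative to a square root of `-1`. -/
def dec (r : F) (n : ℕ) : F := ((n % 3 : ℕ) : F) + ((n / 3 : ℕ) : F) * r

section Codes

variable [CharP F 3] {r : F}

lemma cast_mod_three (n : ℕ) : ((n % 3 : ℕ) : F) = (n : F) :=
  (CharP.natCast_eq_natCast F 3).mpr (Nat.mod_modEq n 3)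

lemma dec_split (a b : ℕ) : dec r (a % 3 + 3 * (b % 3)) = (a : F) + (b : F) * r := by
  rw [dec, show (a % 3 + 3 * (b % 3)) % 3 = a % 3 by omega,
    show (a % 3 + 3 * (b % 3)) / 3 = b % 3 by omega, cast_mod_three, cast_mod_three]

lemma dec_add (x y : ℕ) : dec r (addC x y) = dec r x + dec r y := by
  rw [addC, dec_split, dec, dec]
  push_cast
  ring

lemma dec_mul (hr : r * r = -1) (x y : ℕ) : dec r (mulC x y) = dec r x * dec r y := by
  rw [mulC, dec_split, dec, dec]
  have h2 : (2 : F) = -1 := by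
    have h3 : ((3 : ℕ) : F) = 0 := CharP.cast_eq_zero F 3
    linear_combination h3
  push_cast
  rw [h2]
  linear_combination (-((x / 3 : ℕ) : F) * ((y / 3 : ℕ) : F)) * hr

lemma dec_conj (hr : r * r = -1) (x : ℕ) : dec r (conjC x) = dec r x ^ 3 := by
  haveI : Fact (Nat.Prime 3) := ⟨Nat.prime_three⟩
  have hfix : ∀ n : ℕ, (n : F) ^ 3 = n := fun n => map_natCast (frobenius F 3) n
  have h2 : (2 : F) = -1 := by
    have h3 : ((3 : ℕ) : F) = 0 := CharP.cast_eq_zero F 3
    linear_combination h3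
  rw [conjC, show x % 3 = x % 3 % 3 by omega, dec_split, dec, add_pow_char, mul_pow, hfix, hfix,
    show r ^ 3 = r * r * r by ring, hr]
  push_cast
  rw [h2]
  ring

lemma dec_one : dec r 1 = 1 := by simp [dec]

lemma dec_zero : dec r 0 = 0 := by simp [dec]

lemma dec_inj (hr : r * r = -1) {x y : ℕ} (hx : x < 9) (hy : y < 9) (h : dec r x = dec r y) :
    x = y := by
  have h3 : ((3 : ℕ) : F) = 0 := CharP.cast_eq_zero F 3
  by_cases hb : x / 3 = y / 3
  · rw [dec, dec, hb, add_left_inj, CharP.natCast_eq_natCast F 3] at h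
    have : x % 3 % 3 = y % 3 % 3 := h
    omega
  exfalso
  have hx' : x % 3 < 3 := Nat.mod_lt _ (by norm_num)
  have hy' : y % 3 < 3 := Nat.mod_lt _ (by norm_num)
  have hd : ((x / 3 : ℕ) : F) - ((y / 3 : ℕ) : F) ≠ 0 := by
    rw [sub_ne_zero, Ne, CharP.natCast_eq_natCast F 3]
    intro e
    have : x / 3 % 3 = y / 3 % 3 := e
    omega
  have hsq : ∀ n : ℕ, (n : F) = 0 ∨ (n : F) * n = 1 := by
    intro n
    rcases (show n % 3 = 0 ∨ n % 3 = 1 ∨ n % 3 = 2 by omega) with e | e | e <;>
      rw [← cast_mod_three n, e]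
    · exact Or.inl Nat.cast_zero
    · exact Or.inr (by simp)
    · exact Or.inr (by push_cast; linear_combination h3)
  have e1 : (((x % 3 + 2 * (y % 3) : ℕ) : F)) = ((y / 3 + 2 * (x / 3) : ℕ) : F) * r := by
    simp only [dec] at h
    push_cast
    linear_combination h + (y % 3 : ℕ) * h3 - (x / 3 : ℕ) * r * h3
  have e2 := congrArg (fun t => t * t) e1
  rcases hsq (y / 3 + 2 * (x / 3)) with hb0 | hb1
  · apply hd
    push_cast at hb0
    linear_combination -hb0 + (x / 3 : ℕ) * h3
  · rcases hsq (x % 3 + 2 * (y % 3)) with ha0 | ha1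
    · rw [ha0, eq_comm, mul_eq_zero] at e1
      rcases e1 with e | e
      · rw [e, zero_mul] at hb1; exact zero_ne_one hb1
      · rw [e, zero_mul] at hr
        exact zero_ne_one (show (0 : F) = 1 by linear_combination -hr)
    · have : (1 : F) = -1 := by
        rw [ha1, show ∀ t : F, t * r * (t * r) = t * t * (r * r) from fun t => by ring, hb1, hr,
          one_mul] at e2
        exact e2
      have h1 : (1 : F) = 0 := by linear_combination h3 - this
      exact one_ne_zero h1

/-- The matrix of a code. -/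
def mat (r : F) : T9 → Matrix (Fin 3) (Fin 3) F
  | (a, b, c, d, e, f, g, h, i) =>
    !![dec r a, dec r b, dec r c; dec r d, dec r e, dec r f; dec r g, dec r h, dec r i]

lemma mat_mul (hr : r * r = -1) (A B : T9) : mat r (mulT A B) = mat r A * mat r B := by
  obtain ⟨a, b, c, d, e, f, g, h, i⟩ := A
  obtain ⟨A, B, C, D, E, F', G, H, I⟩ := B
  ext s t
  fin_cases s <;> fin_cases t <;>
    simp [mat, mulT, dec_add, dec_mul hr, Matrix.mul_apply, Fin.sum_univ_three]

lemma mat_one : mat r oneT = 1 := by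
  simp only [mat, oneT, dec_one, dec_zero]
  exact Matrix.one_fin_three.symm

lemma mat_pow (hr : r * r = -1) (A : T9) : ∀ k, mat r (powT A k) = mat r A ^ k
  | 0 => by rw [pow_zero]; exact mat_one
  | k + 1 => by rw [pow_succ, ← mat_pow hr A k, ← mat_mul hr]; rfl

lemma dec_det (hr : r * r = -1) (A : T9) : dec r (detT A) = (mat r A).det := by
  obtain ⟨a, b, c, d, e, f, g, h, i⟩ := A
  have h2 : dec r 2 = -1 := by
    have h3 : ((3 : ℕ) : F) = 0 := CharP.cast_eq_zero F 3
    rw [dec]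
    norm_num
    linear_combination h3
  simp only [detT, dec_add, dec_mul hr, h2, mat, Matrix.det_fin_three]
  simp
  ring

lemma dec_ip (hr : r * r = -1) (u v : ℕ × ℕ × ℕ) :
    dec r (ipC u v) = dec r u.1 * dec r v.1 ^ 3 + dec r u.2.1 * dec r v.2.1 ^ 3 +
      dec r u.2.2 * dec r v.2.2 ^ 3 := by
  obtain ⟨a, b, c⟩ := u
  obtain ⟨A, B, C⟩ := v
  simp only [ipC, dec_add, dec_mul hr, dec_conj hr]

end Codes

lemma ipC_lt (u v : ℕ × ℕ × ℕ) : ipC u v < 9 := by
  obtain ⟨a, b, c⟩ := u
  obtain ⟨A, B, C⟩ := v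
  simp only [ipC, addC]
  omega

lemma mulC_lt (x y : ℕ) : mulC x y < 9 := by simp only [mulC]; omega

lemma addC_lt (x y : ℕ) : addC x y < 9 := by simp only [addC]; omega

lemma detT_lt (A : T9) : detT A < 9 := by
  obtain ⟨a, b, c, d, e, f, g, h, i⟩ := A
  exact addC_lt _ _

/-- All entries are reduced. -/
def isCode : T9 → Bool
  | (a, b, c, d, e, f, g, h, i) => [a, b, c, d, e, f, g, h, i].all fun x => Nat.blt x 9

lemma isCode_mulT (A B : T9) : isCode (mulT A B) = true := by
  obtain ⟨a, b, c, d, e, f, g, h, i⟩ := A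
  obtain ⟨A, B, C, D, E, F', G, H, I⟩ := B
  simp [isCode, mulT, addC_lt]

lemma isCode_powT (A : T9) : ∀ k, isCode (powT A k) = true
  | 0 => rfl
  | k + 1 => isCode_mulT _ _

lemma mat_inj [CharP F 3] {r : F} (hr : r * r = -1) {A B : T9} (hA : isCode A = true)
    (hB : isCode B = true) (h : mat r A = mat r B) : A = B := by
  obtain ⟨a, b, c, d, e, f, g, h', i⟩ := A
  obtain ⟨A, B, C, D, E, F', G, H, I⟩ := B
  simp only [isCode, List.all_cons, List.all_nil, Bool.and_true, Bool.and_eq_true, Nat.blt_eq] at hA hB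
  obtain ⟨ha, hb, hc, hd, he, hf, hg, hh, hi⟩ := hA
  obtain ⟨hA', hB', hC', hD', hE', hF', hG', hH', hI'⟩ := hB
  have k : ∀ s t, mat r (a, b, c, d, e, f, g, h', i) s t = mat r (A, B, C, D, E, F', G, H, I) s t :=
    fun s t => by rw [h]
  have h00 := dec_inj hr ha hA' (k 0 0)
  have h01 := dec_inj hr hb hB' (k 0 1)
  have h02 := dec_inj hr hc hC' (k 0 2)
  have h10 := dec_inj hr hd hD' (k 1 0)
  have h11 := dec_inj hr he hE' (k 1 1)
  have h12 := dec_inj hr hf hF' (k 1 2)
  have h20 := dec_inj hr hg hG' (k 2 0)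
  have h21 := dec_inj hr hh hH' (k 2 1)
  have h22 := dec_inj hr hi hI' (k 2 2)
  subst_vars
  rfl

theorem orders_PSU [Fintype F] (hF : Fintype.card F = 9) :
    Set.range (orderOf : Cfsg.PSU 3 F 3 → ℕ) = {1, 2, 3, 4, 6, 8, 12, 7} := by
  classical
  haveI : Fact (Nat.Prime 3) := ⟨Nat.prime_three⟩
  haveI : CharP F 3 := charP_of_card_eq_prime_pow (f := 2) (by rw [hF]; norm_num)
  obtain ⟨r, hr'⟩ := (FiniteField.isSquare_neg_one_iff (F := F)).mpr (by rw [hF]; norm_num)
  have hr : r * r = -1 := hr'.symm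
  have hsurj : ∀ t : F, ∃ n, n < 9 ∧ dec r n = t := by
    have hb : Function.Bijective fun n : Fin 9 => dec r n.val :=
      (Fintype.bijective_iff_injective_and_card _).mpr
        ⟨fun m n h => Fin.ext (dec_inj hr m.2 n.2 h), by rw [Fintype.card_fin, hF]⟩
    intro t
    obtain ⟨n, hn⟩ := hb.2 t
    exact ⟨n, n.2, hn⟩
  choose cd hcd_lt hcd using hsurj
  -- codes of unitary matrices
  have hrep : ∀ g : Cfsg.SU 3 F 3, ∃ A : T9, isCode A = true ∧ mat r A = g.1.1 ∧ okT A = true ∧
      detT A = 1 := by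
    intro g
    set M := g.1.1 with hM
    let c : Fin 3 → ℕ × ℕ × ℕ := fun j => (cd (M 0 j), cd (M 1 j), cd (M 2 j))
    refine ⟨ofCols (c 0) (c 1) (c 2), ?_, ?_, ?_, ?_⟩
    · simp [ofCols, c, isCode, hcd_lt]
    · ext s t
      fin_cases s <;> fin_cases t <;> simp [mat, ofCols, c, hcd]
    · have hip : ∀ i j, ipC (c i) (c j) = if i = j then 1 else 0 := fun i j => by
        refine dec_inj hr (ipC_lt _ _) (by split_ifs <;> norm_num) ?_
        rw [dec_ip hr]
        have h := g.2 (Pi.single i 1) (Pi.single j 1)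
        simp only [Cfsg.hermForm, Fin.sum_univ_three] at h
        simp only [c, hcd]
        have hcol : ∀ i k, (Cfsg.slToMat 3 F g.1 *ᵥ Pi.single i 1) k = M k i := fun i k => by
          rw [Matrix.mulVec_single_one]; rfl
        rw [hcol, hcol, hcol, hcol, hcol, hcol] at h
        rw [h]
        rcases eq_or_ne i j with rfl | hij
        · rw [if_pos rfl, dec_one]
          fin_cases i <;> simp
        · rw [if_neg hij, dec_zero]
          fin_cases i <;> fin_cases j <;> simp at hij ⊢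
      have hmem : ∀ j, c j ∈ units := by
        intro j
        simp only [units, List.mem_filter, hip, if_pos, beq_self_eq_true, and_true, triples,
          List.mem_flatMap, List.mem_map, List.mem_range]
        exact ⟨_, hcd_lt _, _, hcd_lt _, _, hcd_lt _, rfl⟩
      have h := allOK_eq
      simp only [allOK, List.all_eq_true, Bool.or_eq_true, bne_iff_ne, List.mem_filter,
        beq_iff_eq] at h
      exact (h _ (hmem 0) _ ⟨hmem 1, by simp [hip]⟩ _ ⟨hmem 2, by simp [hip]⟩).resolve_left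
        (by simp [hip])
    · refine dec_inj hr (detT_lt _) (by norm_num) ?_
      rw [dec_det hr, dec_one]
      have : mat r (ofCols (c 0) (c 1) (c 2)) = M := by
        ext s t
        fin_cases s <;> fin_cases t <;> simp [mat, ofCols, c, hcd]
      rw [this]
      exact g.1.2
  have hwit : ∀ k A, (k, A) ∈ witness → ∃ g : Cfsg.SU 3 F 3, g.1.1 = mat r A ∧ orderOf g = k := by
    intro k A hA
    have h := witness_ok
    simp only [List.all_eq_true, Bool.and_eq_true, beq_iff_eq, Bool.or_eq_true, bne_iff_ne,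
      List.mem_range] at h
    obtain ⟨⟨hsu, hpow⟩, hmin⟩ := h _ hA
    obtain ⟨a, b, c, d, e, f, g, h', i⟩ := A
    simp only [isSU, Bool.and_eq_true, beq_iff_eq] at hsu
    obtain ⟨⟨⟨⟨⟨⟨⟨hdet, h11⟩, h22⟩, h33⟩, h12⟩, h13⟩, h23⟩, hlt⟩ := hsu
    set A : T9 := (a, b, c, d, e, f, g, h', i) with hAdef
    have hd : (mat r A).det = 1 := by rw [← dec_det hr, hdet, dec_one]
    let G1 : Matrix.SpecialLinearGroup (Fin 3) F := ⟨mat r A, hd⟩
    have hmem : G1 ∈ Cfsg.SU 3 F 3 := by
      intro u v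
      have d11 := congrArg (dec r) h11
      have d22 := congrArg (dec r) h22
      have d33 := congrArg (dec r) h33
      have d12 := congrArg (dec r) h12
      have d13 := congrArg (dec r) h13
      have d23 := congrArg (dec r) h23
      rw [dec_ip hr] at d11 d22 d33 d12 d13 d23
      simp only [dec_one, dec_zero] at d11 d22 d33 d12 d13 d23
      have h9 : ∀ t : F, (t ^ 3) ^ 3 = t := fun t => by
        rw [← pow_mul]; have := FiniteField.pow_card t; rwa [hF] at this
      have hflip : ∀ {p q s P Q R : F}, p * P ^ 3 + q * Q ^ 3 + s * R ^ 3 = 0 →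
          P * p ^ 3 + Q * q ^ 3 + R * s ^ 3 = 0 := fun {p q s P Q R} e => by
        have e2 := congrArg (· ^ 3) e
        simp only [add_pow_char, mul_pow, h9, zero_pow (by norm_num : 3 ≠ 0)] at e2
        linear_combination e2
      have d21 := hflip d12
      have d31 := hflip d13
      have d32 := hflip d23
      show Cfsg.hermForm 3 F 3 (mat r A *ᵥ u) (mat r A *ᵥ v) = _
      simp only [Cfsg.hermForm, Fin.sum_univ_three, Matrix.mulVec, dotProduct, mat, hAdef,
        Matrix.of_apply, Matrix.cons_val_zero, Matrix.cons_val_one, Matrix.cons_val, add_pow_char,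
        mul_pow]
      linear_combination u 0 * v 0 ^ 3 * d11 + u 1 * v 1 ^ 3 * d22 + u 2 * v 2 ^ 3 * d33 +
        u 0 * v 1 ^ 3 * d12 + u 0 * v 2 ^ 3 * d13 + u 1 * v 2 ^ 3 * d23 +
        u 1 * v 0 ^ 3 * d21 + u 2 * v 0 ^ 3 * d31 + u 2 * v 1 ^ 3 * d32
    refine ⟨⟨G1, hmem⟩, rfl, ?_⟩
    have hp : ∀ j, ((⟨G1, hmem⟩ : Cfsg.SU 3 F 3) ^ j).1.1 = mat r (powT A j) := fun j => by
      rw [mat_pow hr, SubmonoidClass.coe_pow]
      exact Matrix.SpecialLinearGroup.coe_pow G1 j
    have hk : 0 < k := by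
      simp [witness] at hA
      omega
    refine (orderOf_eq_iff hk).mpr ⟨?_, fun j hj hj0 hjeq => ?_⟩
    · refine Subtype.ext (Subtype.ext ?_)
      rw [hp, hpow, mat_one]
      rfl
    · refine (hmin j hj).resolve_left (by omega) (mat_inj hr (isCode_powT _ _) rfl ?_)
      rw [← hp, hjeq, mat_one]
      rfl
  obtain ⟨g7, hg7, -⟩ := hwit 7 genSeven (by decide)
  obtain ⟨g8, hg8, -⟩ := hwit 8 genEight (by decide)
  have hpoweq : ∀ (g : Cfsg.SU 3 F 3) (A : T9) (k : ℕ), mat r A = g.1.1 → powT A k = oneT →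
      g ^ k = 1 := fun g A k hA h => by
    refine Subtype.ext (Subtype.ext ?_)
    rw [SubmonoidClass.coe_pow, Matrix.SpecialLinearGroup.coe_pow, ← hA, ← mat_pow hr, h, mat_one]
    rfl
  have hcases : ∀ g : Cfsg.SU 3 F 3, g ^ 8 = 1 ∨ g ^ 12 = 1 ∨ g ^ 7 = 1 := by
    intro g
    obtain ⟨A, -, hA, hok, hdet⟩ := hrep g
    simp only [okT, Bool.or_eq_true, Bool.and_eq_true, bne_iff_ne, beq_iff_eq] at hok
    obtain ⟨hpow, -⟩ := hok.resolve_left (by simp [hdet])
    have hm : ∀ (B : T9) (k : ℕ), mat r B = mat r A ^ k → B = oneT → g ^ k = 1 := fun B k hB h => by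
      refine Subtype.ext (Subtype.ext ?_)
      rw [SubmonoidClass.coe_pow, Matrix.SpecialLinearGroup.coe_pow, ← hA, ← hB, h, mat_one]
      rfl
    rcases hpow with (h | h) | h
    · exact Or.inl (hm _ 8 (by simp only [mat_mul hr]; rw [← pow_two, ← pow_two, ← pow_two, ← pow_mul, ← pow_mul]) h)
    · exact Or.inr (Or.inl (hm _ 12 (by simp only [mat_mul hr]; simp only [← pow_two, ← pow_mul, ← pow_add, Nat.reduceMul, Nat.reducePow, Nat.reduceAdd]) h))
    · refine Or.inr (Or.inr (hm _ 7 ?_ h))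
      simp only [mat_mul hr]
      simp only [← pow_two, ← pow_mul, ← pow_add, ← pow_succ, Nat.reduceMul, Nat.reducePow, Nat.reduceAdd]
  have hcenter : Subgroup.center (Cfsg.SU 3 F 3) = ⊥ := by
    rw [eq_bot_iff]
    intro z hz
    obtain ⟨A, hcode, hA, hok, hdet⟩ := hrep z
    simp only [okT, Bool.or_eq_true, Bool.and_eq_true, bne_iff_ne, beq_iff_eq] at hok
    obtain ⟨-, hc⟩ := hok.resolve_left (by simp [hdet])
    have hcomm : ∀ (w : Cfsg.SU 3 F 3) (B : T9), w.1.1 = mat r B → mulT A B = mulT B A := by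
      intro w B hw
      refine mat_inj hr (isCode_mulT _ _) (isCode_mulT _ _) ?_
      rw [mat_mul hr, mat_mul hr, hA, ← hw]
      exact (congrArg (fun t : Cfsg.SU 3 F 3 => t.1.1) (Subgroup.mem_center_iff.mp hz w)).symm
    rcases hc with (h | h) | h
    · rw [Subgroup.mem_bot]
      refine Subtype.ext (Subtype.ext ?_)
      rw [← hA, h, mat_one]
      rfl
    · exact absurd (hcomm g7 genSeven hg7) h
    · exact absurd (hcomm g8 genEight hg8) h
  have hmk : Function.Injective (QuotientGroup.mk' (Subgroup.center (Cfsg.SU 3 F 3))) := by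
    rw [← MonoidHom.ker_eq_bot_iff, QuotientGroup.ker_mk', hcenter]
  apply Set.Subset.antisymm
  · rintro m ⟨x, rfl⟩
    obtain ⟨g, rfl⟩ := QuotientGroup.mk'_surjective _ x
    rw [orderOf_injective _ hmk]
    simp only [Set.mem_insert_iff, Set.mem_singleton_iff]
    rcases hcases g with h | h | h <;> have h' := orderOf_dvd_of_pow_eq_one h <;>
      have := Nat.le_of_dvd (by norm_num) h' <;> revert h' <;> interval_cases orderOf g <;> omega
  · intro m hm
    simp only [Set.mem_insert_iff, Set.mem_singleton_iff] at hm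
    obtain ⟨A, hA⟩ : ∃ A, (m, A) ∈ witness := by
      rcases hm with rfl | rfl | rfl | rfl | rfl | rfl | rfl | rfl <;>
        exact ⟨_, by simp [witness]; rfl⟩
    obtain ⟨g, -, hg⟩ := hwit m A hA
    exact ⟨QuotientGroup.mk' _ g, by rw [orderOf_injective _ hmk, hg]⟩

end CfsgLib.SpectrumU33
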