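import Mathlib

/-!
A fixed-point-free subgroup of order 24 of `GL_4(7)`: the semidirect product C₃ ⋊ C₈.
-/

namespace CfsgLib.SpectrumU33

/-- Product of `4 × 4` matrices modulo 7 stored row by row. -/
def mulL (A B : List ℕ) : List ℕ :=
  (List.range 16).map fun t =>
    (A.getD (4 * (t / 4)) 0 * B.getD (t % 4) 0 +
      A.getD (4 * (t / 4) + 1) 0 * B.getD (4 + t % 4) 0 +
      A.getD (4 * (t / 4) + 2) 0 * B.getD (8 + t % 4) 0 +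
      A.getD (4 * (t / 4) + 3) 0 * B.getD (12 + t % 4) 0) % 7

/-- Sum of matrices modulo 7. -/
def addL (A B : List ℕ) : List ℕ :=
  (List.range 16).map fun t => (A.getD t 0 + B.getD t 0) % 7

/-- The identity matrix. -/
def oneL : List ℕ := [1, 0, 0, 0, 0, 1, 0, 0, 0, 0, 1, 0, 0, 0, 0, 1]

/-- Powers. -/
def powL (A : List ℕ) : ℕ → List ℕ
  | 0 => oneL
  | k + 1 => mulL (powL A k) A

/-- `1 + A + ⋯ + A ^ (k - 1)`. -/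
def sumL (A : List ℕ) : ℕ → List ℕ
  | 0 => List.replicate 16 0
  | k + 1 => addL (sumL A k) (powL A k)

/-- The 24 matrices. -/
def elts : List (List ℕ) := [
  [1, 0, 0, 0, 0, 1, 0, 0, 0, 0, 1, 0, 0, 0, 0, 1],
  [2, 0, 0, 0, 0, 2, 0, 0, 0, 0, 4, 0, 0, 0, 0, 4],
  [0, 0, 1, 0, 0, 0, 0, 1, 0, 6, 0, 0, 1, 0, 0, 0],
  [4, 0, 0, 0, 0, 4, 0, 0, 0, 0, 2, 0, 0, 0, 0, 2],
  [0, 0, 2, 0, 0, 0, 0, 2, 0, 3, 0, 0, 4, 0, 0, 0],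
  [0, 0, 4, 0, 0, 0, 0, 4, 0, 5, 0, 0, 2, 0, 0, 0],
  [0, 6, 0, 0, 1, 0, 0, 0, 0, 0, 0, 6, 0, 0, 1, 0],
  [0, 5, 0, 0, 2, 0, 0, 0, 0, 0, 0, 3, 0, 0, 4, 0],
  [0, 3, 0, 0, 4, 0, 0, 0, 0, 0, 0, 5, 0, 0, 2, 0],
  [0, 0, 0, 6, 0, 0, 1, 0, 6, 0, 0, 0, 0, 6, 0, 0],
  [0, 0, 0, 5, 0, 0, 2, 0, 3, 0, 0, 0, 0, 3, 0, 0],
  [0, 0, 0, 3, 0, 0, 4, 0, 5, 0, 0, 0, 0, 5, 0, 0],
  [6, 0, 0, 0, 0, 6, 0, 0, 0, 0, 6, 0, 0, 0, 0, 6],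
  [5, 0, 0, 0, 0, 5, 0, 0, 0, 0, 3, 0, 0, 0, 0, 3],
  [3, 0, 0, 0, 0, 3, 0, 0, 0, 0, 5, 0, 0, 0, 0, 5],
  [0, 0, 6, 0, 0, 0, 0, 6, 0, 1, 0, 0, 6, 0, 0, 0],
  [0, 0, 5, 0, 0, 0, 0, 5, 0, 4, 0, 0, 3, 0, 0, 0],
  [0, 0, 3, 0, 0, 0, 0, 3, 0, 2, 0, 0, 5, 0, 0, 0],
  [0, 1, 0, 0, 6, 0, 0, 0, 0, 0, 0, 1, 0, 0, 6, 0],
  [0, 2, 0, 0, 5, 0, 0, 0, 0, 0, 0, 4, 0, 0, 3, 0],
  [0, 4, 0, 0, 3, 0, 0, 0, 0, 0, 0, 2, 0, 0, 5, 0],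
  [0, 0, 0, 1, 0, 0, 6, 0, 1, 0, 0, 0, 0, 1, 0, 0],
  [0, 0, 0, 2, 0, 0, 5, 0, 4, 0, 0, 0, 0, 4, 0, 0],
  [0, 0, 0, 4, 0, 0, 3, 0, 2, 0, 0, 0, 0, 2, 0, 0]]

theorem elts_mul : (elts.all fun a => elts.all fun b => elts.contains (mulL a b)) = true := by
  decide +kernel

theorem elts_one : elts.contains oneL = true := by decide +kernel

theorem elts_orders : (elts.all fun a => a == oneL || [2, 3, 4, 6, 8, 12].any fun k =>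
    powL a k == oneL && sumL a k == List.replicate 16 0 &&
      (List.range k).all fun j => j == 0 || powL a j != oneL) = true := by
  decide +kernel

theorem elts_nodup : elts.Nodup := by decide +kernel

theorem elts_witness : ([2, 3, 4, 6, 8, 12].all fun k => elts.any fun a =>
    powL a k == oneL && (List.range k).all fun j => j == 0 || powL a j != oneL) = true := by
  decide +kernel

theorem elts_length : elts.length = 24 := by decide +kernel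

theorem elts_wf : (elts.all fun a => a.length == 16 && a.all fun x => Nat.blt x 7) = true := by
  decide +kernel

end CfsgLib.SpectrumU33
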