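import Mathlib

/-!
`SU₃(3)` over the field with nine elements, with `a + b i` (`i² = -1`) stored as `a + 3 b`.
-/

namespace CfsgLib.SpectrumU33

/-- Addition. -/
def addC (x y : ℕ) : ℕ := (x % 3 + y % 3) % 3 + 3 * ((x / 3 + y / 3) % 3)

/-- Multiplication. -/
def mulC (x y : ℕ) : ℕ :=
  (x % 3 * (y % 3) + 2 * (x / 3) * (y / 3)) % 3 + 3 * ((x % 3 * (y / 3) + x / 3 * (y % 3)) % 3)

/-- The field automorphism `t ↦ t³`. -/
def conjC (x : ℕ) : ℕ := x % 3 + 3 * ((2 * (x / 3)) % 3)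

/-- The hermitian product of two triples. -/
def ipC : ℕ × ℕ × ℕ → ℕ × ℕ × ℕ → ℕ
  | (a, b, c), (A, B, C) => addC (addC (mulC a (conjC A)) (mulC b (conjC B))) (mulC c (conjC C))

/-- Matrices row by row. -/
abbrev T9 := ℕ × ℕ × ℕ × ℕ × ℕ × ℕ × ℕ × ℕ × ℕ

/-- Product. -/
def mulT : T9 → T9 → T9
  | (a, b, c, d, e, f, g, h, i), (A, B, C, D, E, F, G, H, I) =>
    (addC (addC (mulC a A) (mulC b D)) (mulC c G), addC (addC (mulC a B) (mulC b E)) (mulC c H),
      addC (addC (mulC a C) (mulC b F)) (mulC c I),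
      addC (addC (mulC d A) (mulC e D)) (mulC f G), addC (addC (mulC d B) (mulC e E)) (mulC f H),
      addC (addC (mulC d C) (mulC e F)) (mulC f I),
      addC (addC (mulC g A) (mulC h D)) (mulC i G), addC (addC (mulC g B) (mulC h E)) (mulC i H),
      addC (addC (mulC g C) (mulC h F)) (mulC i I))

/-- The identity. -/
def oneT : T9 := (1, 0, 0, 0, 1, 0, 0, 0, 1)

/-- The determinant. -/
def detT : T9 → ℕ
  | (a, b, c, d, e, f, g, h, i) =>
    addC (addC (addC (mulC (mulC a e) i) (mulC (mulC b f) g)) (mulC (mulC c d) h))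
      (mulC 2 (addC (addC (mulC (mulC c e) g) (mulC (mulC a f) h)) (mulC (mulC b d) i)))

/-- Powers. -/
def powT (A : T9) : ℕ → T9
  | 0 => oneT
  | k + 1 => mulT (powT A k) A

/-- The matrix with the given columns. -/
def ofCols : ℕ × ℕ × ℕ → ℕ × ℕ × ℕ → ℕ × ℕ × ℕ → T9
  | (a, d, g), (b, e, h), (c, f, i) => (a, b, c, d, e, f, g, h, i)

/-- An element of order 7. -/
def genSeven : T9 := (0, 4, 5, 0, 4, 7, 1, 0, 0)

/-- An element of order 8. -/
def genEight : T9 := (0, 0, 3, 0, 3, 0, 1, 0, 0)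

/-- The tests on an element of `SU₃(3)`. -/
def okT (g : T9) : Bool :=
  let g2 := mulT g g
  let g4 := mulT g2 g2
  let g8 := mulT g4 g4
  detT g != 1 ||
    ((g8 == oneT || mulT g8 g4 == oneT || mulT (mulT g4 g2) g == oneT) &&
      (g == oneT || mulT g genSeven != mulT genSeven g || mulT g genEight != mulT genEight g))

/-- All triples. -/
def triples : List (ℕ × ℕ × ℕ) :=
  (List.range 9).flatMap fun a => (List.range 9).flatMap fun b =>
    (List.range 9).map fun c => (a, b, c)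

/-- The vectors of norm one. -/
def units : List (ℕ × ℕ × ℕ) := triples.filter fun v => ipC v v == 1

/-- All orthonormal bases pass the tests. -/
def allOK : Bool :=
  units.all fun c1 =>
    let O := units.filter fun v => ipC c1 v == 0
    O.all fun c2 => O.all fun c3 => ipC c2 c3 != 0 || okT (ofCols c1 c2 c3)

theorem allOK_eq : allOK = true := by decide +kernel

/-- Elements of each order. -/
def witness : List (ℕ × T9) :=
  [(1, (1, 0, 0, 0, 1, 0, 0, 0, 1)), (2, (0, 0, 1, 0, 2, 0, 1, 0, 0)), (3, (0, 1, 0, 0, 0, 1, 1, 0, 0)), (4, (0, 0, 2, 0, 1, 0, 1, 0, 0)), (6, (1, 0, 0, 0, 5, 5, 0, 4, 8)), (7, (0, 4, 5, 0, 4, 7, 1, 0, 0)), (8, (0, 0, 3, 0, 3, 0, 1, 0, 0)), (12, (0, 4, 4, 0, 5, 7, 1, 0, 0))]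

/-- A matrix is special unitary. -/
def isSU : T9 → Bool
  | (a, b, c, d, e, f, g, h, i) =>
    detT (a, b, c, d, e, f, g, h, i) == 1 &&
      ipC (a, d, g) (a, d, g) == 1 && ipC (b, e, h) (b, e, h) == 1 && ipC (c, f, i) (c, f, i) == 1 &&
      ipC (a, d, g) (b, e, h) == 0 && ipC (a, d, g) (c, f, i) == 0 && ipC (b, e, h) (c, f, i) == 0 &&
      [a, b, c, d, e, f, g, h, i].all fun x => Nat.blt x 9

theorem witness_ok : (witness.all fun p => isSU p.2 && powT p.2 p.1 == oneT &&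
    (List.range p.1).all fun j => j == 0 || powT p.2 j != oneT) = true := by
  decide +kernel

end CfsgLib.SpectrumU33
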